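import Groth.Agent.Lib.NegLine28.Collapse
import Groth.Agent.Lib.Contract29.Stein
import Groth.Agent.Lib.Stein.Main
import Groth.Agent.Lib.BlowPt28.Surface
import Groth.Agent.Lib.HodgeIndex.NegCurves
import Groth.Agent.Lib.HodgeIndex.ProjConv
import Groth.Agent.Lib.HypSq28.Seq
import Groth.Agent.Lib.CompleteCurve.P1
import Groth.Agent.Lib.SurfRR28.Proper
import Groth.Agent.Lib.Euler.AmpleExists
import Groth.Agent.Lib.ProjCohom.Corollaries
import Groth.Agent.Lib.Snapper.PushEuler
import Groth.Agent.Lib.Ample.ProjAmple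

/-!
# Contracting a line of negative self-intersection on a surface
-/

universe u

set_option linter.all false
set_option backward.isDefEq.respectTransparency false
set_option maxHeartbeats 1000000

open CategoryTheory CategoryTheory.Limits AlgebraicGeometry Opposite TopologicalSpace
open GrothLib.Cube (clsMod Pic)
open GrothLib.HodgeIndex (isect chi)

noncomputable section

namespace GrothLib.NegLine28

variable (k : Type u) [Field k]

/-- The Euler characteristic of a class on the line. -/
theorem euler_line {M : (CohB1.ProjSpace 1 k).Modules} (hM : PicF.IsInvertible M) (m : ℤ)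
    (h : clsMod hM = clsMod (CMReg.isInvertible_twist (n := 1) (k := k) 1) ^ m) :
    Curv2.euler k (CohB1.ProjSpace 1 k) M = m + 1 := by
  haveI := Chow.isProper_toSpec 1 k
  haveI : IsProper (CohB1.ProjSpace 1 k ↘ Spec (CommRingCat.of k)) := Chow.isProper_toSpec 1 k
  haveI := Euler.isNoetherian_of_proper (X := CohB1.ProjSpace 1 k) k
  rw [← Contract29.cls_twist_zpow k m] at h
  obtain ⟨e⟩ := (Cube.clsMod_eq_iff hM _).1 h
  rw [Euler.euler_of_iso k e, Euler.euler_eq_sum k _ (N := 2) fun i hi =>
    ProjCohom.subsingleton_HH (n := 1) (R := k) (by omega) (by omega)]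
  refine (ProjCohom.euler_twist k 1 one_pos m).trans ?_
  rw [Ring.choose_one_right]
  simp

variable {X : Scheme.{u}} [X.Over (Spec (CommRingCat.of k))]

/-- A line of square `-n` is a Cartier divisor restricting to `O(n)` on itself. -/
theorem pull_ideal [IsAlgClosed k] [Smooth (X ↘ Spec (CommRingCat.of k))] [IsProper (X ↘ Spec (CommRingCat.of k))]
    [IsIntegral X] (hdim : topologicalKrullDim X = 2)
    (j : CohB1.ProjSpace 1 k ⟶ X) [IsClosedImmersion j]
    (hjk : j ≫ (X ↘ Spec (CommRingCat.of k)) = CohB1.ProjSpace.toSpec 1 k) (n : ℤ)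
    (hn : FGA.intNum k X 2 ![ClSub.idealMod j.ker, ClSub.idealMod j.ker] (Coh.structureModule X) = -n) :
    ∃ hj : _root_.BlowUp.IsEffCartierIdeal j.ker,
      Cube.pull j (clsMod (IdealModSec.isInvertible_of_isEffCartier hj)) =
        clsMod (CMReg.isInvertible_twist (n := 1) (k := k) 1) ^ n := by
  haveI := Chow.isProper_toSpec 1 k
  haveI : IsProper (CohB1.ProjSpace 1 k ↘ Spec (CommRingCat.of k)) := Chow.isProper_toSpec 1 k
  haveI := Euler.isNoetherian_of_proper (X := X) k
  haveI : IsIntegral (CohB1.ProjSpace 1 k) := ProjDim.isIntegral_proj _ 1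
  haveI : Nonempty j.ker.subscheme := (IsIntegral.nonempty (X := CohB1.ProjSpace 1 k)).map j.toImage
  haveI hCi : IsIntegral j.ker.subscheme := isIntegral_of_isOpenImmersion (inv j.toImage)
  have h1 : topologicalKrullDim (CohB1.ProjSpace 1 k) = 1 := CompleteCurve.topologicalKrullDim_projLine (k := k)
  have hCd : topologicalKrullDim (j.ker.support : Set X) = 1 := by
    rw [← h1, ← Scheme.IdealSheafData.range_subschemeι]
    refine ((IsHomeomorph.topologicalKrullDim_eq _
      j.ker.subschemeι.isClosedEmbedding.isEmbedding.toHomeomorph.isHomeomorph).symm).trans ?_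
    exact (IsHomeomorph.topologicalKrullDim_eq _ j.toImage.homeomorph.isHomeomorph).symm
  have hI := HodgeIndex.inv_curve k hdim hCi hCd
  have hj : _root_.BlowUp.IsEffCartierIdeal j.ker := IdealModSec.isEffCartier_of_isInvertible hI
  refine ⟨hj, ?_⟩
  have hle : topologicalKrullDim X ≤ ((2 : ℕ) : WithBot ℕ∞) := hdim.le
  rw [SurfRR28.intNum_eq_isect' k hle hI hI] at hn
  set I := clsMod hI with hIdef
  obtain ⟨m, hm⟩ := Contract29.exists_cls_eq_zpow k (Ample.isInvertible_pullback j hI)
  rw [Cube.clsMod_pullback j hI] at hm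
  have key : ∀ z : Pic X, chi k z = chi k (z * I) + chi k (Cube.pull j z) := fun z =>
    (HypSq28.seq k j hjk hI h1.le z).2.2.2.2.2.2
  have e1 := key 1
  have e2 := key I
  rw [one_mul, map_one] at e1
  have hO := Euler.isInvertible_structure (X := CohB1.ProjSpace 1 k)
  have hO1 : clsMod hO = 1 := (Cube.clsMod_eq_one_iff hO).2 ⟨Iso.refl _⟩
  have c1 : chi k (1 : Pic (CohB1.ProjSpace 1 k)) = 1 := by
    rw [← hO1, ← HodgeIndex.euler_eq_chi k hO, euler_line k hO 0 (by rw [hO1, zpow_zero]), zero_add]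
  have c2 : chi k (Cube.pull j I) = m + 1 := by
    rw [← Cube.clsMod_pullback j hI, ← HodgeIndex.euler_eq_chi k, euler_line k _ m (by rw [Cube.clsMod_pullback j hI, hm])]
  have : m = n := by
    simp only [isect, ← hIdef] at hn
    omega
  rw [← this]
  exact hm

/-- A line of negative square on a projective surface contracts to a projective surface. -/
theorem exists_contraction [IsAlgClosed k] [Smooth (X ↘ Spec (CommRingCat.of k))] [IsIntegral X]
    (hdim : topologicalKrullDim X = 2)
    (hprojX : ∃ (N : ℕ) (ι : X ⟶ CohB1.ProjSpace N k), IsClosedImmersion ι ∧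
      ι ≫ CohB1.ProjSpace.toSpec N k = (X ↘ Spec (CommRingCat.of k)))
    (j : CohB1.ProjSpace 1 k ⟶ X) [IsClosedImmersion j]
    (hjk : j ≫ (X ↘ Spec (CommRingCat.of k)) = CohB1.ProjSpace.toSpec 1 k) (n : ℕ) (hn0 : 1 ≤ n)
    (hn : FGA.intNum k X 2 ![ClSub.idealMod j.ker, ClSub.idealMod j.ker] (Coh.structureModule X) = -(n : ℤ)) :
    ∃ (Y : Scheme.{u}) (q : Y ⟶ Spec (CommRingCat.of k)) (g : X ⟶ Y) (P : Y) (hP : IsClosed ({P} : Set Y)),
      g ≫ q = (X ↘ (Spec (CommRingCat.of k))) ∧ IsIntegral Y ∧ topologicalKrullDim Y = 2 ∧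
      (∃ (N : ℕ) (ι : Y ⟶ CohB1.ProjSpace N k), IsClosedImmersion ι ∧ ι ≫ CohB1.ProjSpace.toSpec N k = q) ∧
      (∀ x : X, g x = P ↔ x ∈ Set.range j) ∧
      IsIso (g ∣_ (⟨({P} : Set Y)ᶜ, hP.isOpen_compl⟩ : Y.Opens)) := by
  obtain ⟨N₀, ι₀, hι₀, hι₀k⟩ := hprojX
  haveI := hι₀
  haveI := Chow.isProper_toSpec N₀ k
  haveI : IsProper (X ↘ Spec (CommRingCat.of k)) := hι₀k ▸ inferInstance
  haveI := Euler.isNoetherian_of_proper (X := X) k
  obtain ⟨hj, ht⟩ := pull_ideal k hdim j hjk n hn
  have hA := Ample.isAmple_pullback_of_isAffineHom ι₀ (Ample.isAmple_twistProjSpace_one N₀ k)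
  obtain ⟨d, hd1, hd⟩ := Contract29.exists_degree_pos j hA
  have hAn := (Ample.isAmple_tensorPow_iff hA.1 hn0).1 hA
  obtain ⟨r, φ, hφ, hconst, hlqf⟩ := exists_collapse_map (A := k) j hj n hn0 ht hAn d hd1 (by
    rw [Cube.clsMod_tensorPow hA.1, map_pow, hd, ← zpow_natCast (_ ^ (d : ℤ)) n, ← zpow_mul]
    congr 1; push_cast; ring)
  haveI := Chow.isProper_toSpec r k
  haveI : IsLocallyNoetherian (CohB1.ProjSpace r k) :=
    LocallyOfFiniteType.isLocallyNoetherian (CohB1.ProjSpace.toSpec r k)
  haveI : CompactSpace (CohB1.ProjSpace r k) :=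
    QuasiCompact.compactSpace_of_compactSpace (CohB1.ProjSpace.toSpec r k)
  haveI : IsNoetherian (CohB1.ProjSpace r k) := ⟨⟩
  haveI : IsProper (φ ≫ CohB1.ProjSpace.toSpec r k) := by rw [hφ]; infer_instance
  haveI : IsProper φ := IsProper.of_comp φ (CohB1.ProjSpace.toSpec r k)
  haveI : IsIntegral (CohB1.ProjSpace 1 k) := ProjDim.isIntegral_proj _ 1
  let b := φ.toNormalization
  let g := φ.fromNormalization
  have hbg : b ≫ g = φ := φ.toNormalization_fromNormalization
  haveI : IsFinite g := Stein.isFinite_fromNormalization φ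
  haveI : IsProper (b ≫ g) := hbg.symm ▸ ‹IsProper φ›
  haveI : IsProper b := IsProper.of_comp b g
  haveI : IsLocallyNoetherian φ.normalization := LocallyOfFiniteType.isLocallyNoetherian g
  haveI : CompactSpace φ.normalization := QuasiCompact.compactSpace_of_compactSpace g
  haveI : IsNoetherian φ.normalization := ⟨⟩
  have happ : ∀ V, IsIso (b.app V) := fun V =>
    (ConcreteCategory.isIso_iff_bijective _).2 (Stein.bijective_toNormalization_app φ V)
  haveI : ∀ z : φ.normalization, ConnectedSpace ↥(b.fiber z) := fun z =>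
    Stein.connectedSpace_fiber' b z fun V _ _ => happ V
  let U : X.Opens := ⟨(Set.range j)ᶜ, j.isClosedEmbedding.isClosed_range.isOpen_compl⟩
  have hfinU : ∀ z : φ.normalization, ((U : Set X) ∩ b ⁻¹' {z}).Finite := fun z => by
    haveI := hlqf U (Set.disjoint_left.2 fun x hx => hx)
    haveI : CompactSpace U.toScheme := isCompact_iff_compactSpace.1 (NoetherianSpace.isCompact (U : Set X))
    haveI : QuasiCompact (U.ι ≫ φ) := inferInstance
    refine (((U.ι ≫ φ).finite_preimage_singleton (g z)).image U.ι).subset ?_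
    rintro x ⟨hxU, hxz⟩
    refine ⟨⟨x, hxU⟩, ?_, rfl⟩
    show φ x = g z
    rw [← show (b ≫ g) x = φ x from congrArg (fun φ => φ x) hbg, Scheme.Hom.comp_apply, show b x = z from hxz]
  let p₀ := genericPoint (CohB1.ProjSpace 1 k)
  have himage : ∀ p, g (b (j p)) = φ (j p₀) := fun p => by
    rw [← hconst p p₀, ← Scheme.Hom.comp_apply, hbg]
  let Im := Set.range fun p => b (j p)
  have hImc : IsClosed Im := by
    show IsClosed (Set.range (b ∘ j))
    rw [Set.range_comp]
    exact b.isClosedMap _ j.isClosedEmbedding.isClosed_range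
  let x' := b (j p₀)
  have hIm : Im = {x'} := by
    have hdisc : _root_.IsDiscrete (g ⁻¹' {φ (j p₀)}) := g.isDiscrete_preimage_singleton _
    have hsub : Im ⊆ g ⁻¹' {φ (j p₀)} := by rintro _ ⟨p, rfl⟩; exact himage p
    have hconn : _root_.IsPreconnected Im := isPreconnected_range (b.continuous.comp j.continuous)
    haveI := (hdisc.mono hsub).to_subtype
    haveI : PreconnectedSpace Im := Subtype.preconnectedSpace hconn
    haveI : Subsingleton Im := PreconnectedSpace.trivial_of_discrete
    exact (Set.subsingleton_coe _).1 inferInstance |>.eq_singleton_of_mem ⟨p₀, rfl⟩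
  have hx' : IsClosed ({x'} : Set φ.normalization) := hIm ▸ hImc
  have hfib : Set.range j = b ⁻¹' {x'} := by
    refine Set.Subset.antisymm ?_ fun x hx => ?_
    · rintro _ ⟨p, rfl⟩
      exact hIm.le ⟨p, rfl⟩
    · by_contra hxE
      exact (Contract29.eq_empty_of_finite_open b x' (hfinU x') ⟨j p₀, rfl, fun h => h ⟨p₀, rfl⟩⟩).le ⟨hxE, hx⟩
  let P : φ.normalization.Opens := ⟨{x'}ᶜ, hx'.isOpen_compl⟩
  have hpunct : IsIso (b ∣_ P) := by
    haveI : IsProper (b ∣_ P) := IsZariskiLocalAtTarget.restrict ‹IsProper b› P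
    haveI : LocallyQuasiFinite (b ∣_ P) := by
      refine LocallyQuasiFinite.of_finite_preimage_singleton _ fun z => ?_
      refine ((hfinU z.1).preimage Subtype.val_injective.injOn).subset fun w hw => ⟨fun h => ?_, ?_⟩
      · exact w.2 (hfib.le h)
      · show b w.1 = z.1
        rw [← show (b ∣_ P) w = z from hw]
        exact (morphismRestrict_base_coe b P w).symm
    haveI : IsFinite (b ∣_ P) := IsFinite.of_isProper_of_locallyQuasiFinite _
    refine Contract29.isIso_of_affineHom_of_app _ fun V => ?_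
    rw [morphismRestrict_app]
    haveI := happ (P.ι ''ᵁ V)
    infer_instance
  -- the target is a surface
  have hsurj : Function.Surjective b := fun z => by
    by_cases hz : z = x'
    · exact ⟨j p₀, hz.symm⟩
    · obtain ⟨w, hw⟩ := (b ∣_ P).surjective (⟨z, hz⟩ : P.toScheme)
      exact ⟨w.1, (morphismRestrict_base_coe b P w).symm.trans (congrArg Subtype.val hw)⟩
  haveI : IsIntegral φ.normalization := inferInstance
  have hdimY : topologicalKrullDim φ.normalization = 2 := by
    refine le_antisymm ((AlgSp.topologicalKrullDim_le_of_specializingMap b.continuous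
      b.isClosedMap.specializingMap hsurj).trans hdim.le) ?_
    haveI : JacobsonSpace X := LocallyOfFiniteType.jacobsonSpace (X ↘ Spec (CommRingCat.of k))
    have hne : ((b ⁻¹ᵁ P : X.Opens) : Set X).Nonempty := by
      by_contra hemp
      rw [Set.not_nonempty_iff_eq_empty] at hemp
      have hall : Set.range j = Set.univ := Set.eq_univ_of_forall fun x => by
        rw [hfib]
        by_contra hx
        exact (Set.eq_empty_iff_forall_notMem.1 hemp x) hx
      have h1 : topologicalKrullDim (CohB1.ProjSpace 1 k) = 1 := CompleteCurve.topologicalKrullDim_projLine (k := k)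
      have h2 : topologicalKrullDim X = 1 := by
        rw [← h1]
        exact (IsHomeomorph.topologicalKrullDim_eq _ ((isHomeomorph_iff_isEmbedding_surjective).2
          ⟨j.isClosedEmbedding.isEmbedding, Set.range_eq_univ.1 hall⟩)).symm
      exact absurd (h2.symm.trans hdim) (by norm_num)
    obtain ⟨x, hxP, hxc⟩ := nonempty_inter_closedPoints hne (b ⁻¹ᵁ P).isOpen.isLocallyClosed
    have h2 := BlowPt28.dim_stalk_closed k (BlowPt28.components_of_irreducible hdim) hxc
    haveI := hpunct
    haveI : IsIso (b.stalkMap x) :=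
      ((MorphismProperty.isomorphisms CommRingCat).arrow_mk_iso_iff (morphismRestrictStalkMap b P ⟨x, hxP⟩)).1
        (inferInstanceAs (IsIso ((b ∣_ P).stalkMap ⟨x, hxP⟩)))
    rw [← h2, ← ringKrullDim_eq_of_ringEquiv (asIso (b.stalkMap x)).commRingCatIsoToRingEquiv]
    exact Ref1.ringKrullDim_stalk_le_topologicalKrullDim _
  -- projectivity
  let q := g ≫ CohB1.ProjSpace.toSpec r k
  haveI : IsProper q := inferInstance
  obtain ⟨N, i, hi, hif⟩ := Ample.exists_immersion_of_isAmple q
    (Ample.isAmple_pullback_of_isAffineHom g (Ample.isAmple_twistProjSpace_one r k))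
  haveI := hi
  haveI : IsProper (CohB1.ProjSpaceOver.toBase N (Spec (CommRingCat.of k))) := Chow.isProper_toBase N _
  haveI : IsProper (i ≫ CohB1.ProjSpaceOver.toBase N (Spec (CommRingCat.of k))) := hif ▸ inferInstance
  haveI : IsProper i := IsProper.of_comp i (CohB1.ProjSpaceOver.toBase N _)
  haveI := Chow.isClosedImmersion_of_isImmersion_of_isProper i
  haveI := Ample.ProjMap.isClosedImmersion_toProjSpace N k
  refine ⟨φ.normalization, q, b, x', hx', ?_, inferInstance, hdimY, ⟨N, i ≫ Ample.ProjMap.toProjSpace N k,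
    inferInstance, ?_⟩, fun x => ⟨fun h => hfib.ge h, fun h => hfib.le h⟩, hpunct⟩
  · rw [← Category.assoc, hbg, hφ]
  · rw [Category.assoc, Ample.ProjMap.toProjSpace_toSpec]
    exact hif

end GrothLib.NegLine28
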