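import Groth.Agent.Lib.Contract29.Collapse

/-!
# A map to projective space collapsing exactly a line of negative self-intersection
-/

universe u

set_option linter.all false
set_option backward.isDefEq.respectTransparency false

open CategoryTheory CategoryTheory.Limits AlgebraicGeometry Opposite TopologicalSpace
open GrothLib.InvExt (mres IsGen)
open GrothLib.Contract29 (down)
open GrothLib.Cube (clsMod)

noncomputable section

namespace GrothLib.NegLine28

variable {X : Scheme.{u}} {A : Type u} [CommRing A] [IsNoetherianRing A] [X.Over (Spec (CommRingCat.of A))]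
  [IsProper (X ↘ Spec (CommRingCat.of A))] {k : Type u} [Field k] (j : CohB1.ProjSpace 1 k ⟶ X)
  [IsClosedImmersion j] (hj : _root_.BlowUp.IsEffCartierIdeal j.ker) (n : ℕ) (hn : 1 ≤ n)
  (ht : Cube.pull j (clsMod (IdealModSec.isInvertible_of_isEffCartier hj)) =
    clsMod (CMReg.isInvertible_twist (n := 1) (k := k) 1) ^ (n : ℤ))
include ht

omit [IsProper (X ↘ Spec (CommRingCat.of A))] [IsNoetherianRing A] in
theorem pull_mul_inv_pow {P : Cube.Pic X} (d : ℤ)
    (hP : Cube.pull j P = clsMod (CMReg.isInvertible_twist (n := 1) (k := k) 1) ^ d) (i : ℕ) :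
    Cube.pull j (P * (clsMod (IdealModSec.isInvertible_of_isEffCartier hj))⁻¹ ^ i) =
      clsMod (CMReg.isInvertible_twist (n := 1) (k := k) 1) ^ (d - n * i) := by
  rw [map_mul, map_pow, map_inv, hP, ht, inv_pow, ← zpow_natCast ((clsMod _) ^ (n : ℤ)) i, ← zpow_mul, ← zpow_sub]

omit [IsProper (X ↘ Spec (CommRingCat.of A))] [IsNoetherianRing A] in
include A in
/-- Twisting by the line keeps the first cohomology zero in the range of the degree. -/
theorem subsingleton_H1_twists (L : X.Modules) (hL : PicF.IsInvertible L) (d : ℤ)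
    (hd : Cube.pull j (clsMod hL) = clsMod (CMReg.isInvertible_twist (n := 1) (k := k) 1) ^ d)
    (h1 : Subsingleton (Coh.HH X L 1)) :
    ∀ (i : ℕ), (n * i : ℤ) ≤ d + 1 → ∀ (N : X.Modules) (hN : PicF.IsInvertible N),
      clsMod hN = clsMod hL * (clsMod (IdealModSec.isInvertible_of_isEffCartier hj))⁻¹ ^ i →
      Subsingleton (Coh.HH X N 1) := by
  intro i
  induction i with
  | zero =>
    intro _ N hN h
    rw [pow_zero, mul_one] at h
    obtain ⟨e⟩ := (Cube.clsMod_eq_iff hN hL).1 h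
    exact CMReg.subsingleton_of_iso e.symm h1
  | succ i ih =>
    intro hi N hN h
    have hI := IdealModSec.isInvertible_of_isEffCartier hj
    have hN' := Ample.isInvertible_tensorMod hN hI
    have hcl : clsMod hN' = clsMod hL * (clsMod hI)⁻¹ ^ i := by
      rw [Cube.clsMod_tensorMod hN hI, h, pow_succ]
      simp [mul_assoc]
    haveI := ih (by push_cast at hi; nlinarith) _ hN' hcl
    obtain ⟨f, θ, w, hS⟩ := Contract29.exists_seq_twist j hj hN hN' (Cube.clsMod_tensorMod hN hI)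
    have hG := Ample.isInvertible_pullback j hN
    haveI : Subsingleton (Coh.HH (CohB1.ProjSpace 1 k) ((Scheme.Modules.pullback j).obj N) 1) :=
      Contract29.subsingleton_H1_of_cls_zpow k hG (d - n * (i + 1 : ℕ)) (by omega)
        (by rw [Cube.clsMod_pullback j hN, h, pull_mul_inv_pow j hj n ht d hd])
    haveI : ((Scheme.Modules.pullback j).obj N).IsQuasicoherent :=
      Euler.isQuasicoherent_of_isFinLocFree (Euler.isFinLocFree_of_isInvertible hG)
    obtain ⟨q⟩ := Cohom.nonempty_HH_equiv_pushforward j ((Scheme.Modules.pullback j).obj N) 1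
    haveI := q.symm.toEquiv.subsingleton
    refine ⟨fun x y => ?_⟩
    have key : ∀ z : Coh.HH X N 1, z = 0 := fun z => by
      obtain ⟨v, hv⟩ := (Cohom.exact₂ (A := A) hS 1 z).1 (Subsingleton.elim _ _)
      rw [← hv, Subsingleton.elim v 0, map_zero]
    rw [key x, key y]

include hn

include A in
/-- The twisted bundle of degree zero on the line: a section generating along it, and sections from the original
bundle generating exactly off it. -/
theorem exists_twisted_sections (L : X.Modules) (hL : PicF.IsInvertible L) (d : ℕ) (hd1 : 1 ≤ d)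
    (hd : Cube.pull j (clsMod hL) = clsMod (CMReg.isInvertible_twist (n := 1) (k := k) 1) ^ ((n * d : ℕ) : ℤ))
    (h1 : Subsingleton (Coh.HH X L 1)) (N : X.Modules) (hN : PicF.IsInvertible N)
    (hNc : clsMod hN = clsMod hL * (clsMod (IdealModSec.isInvertible_of_isEffCartier hj))⁻¹ ^ d) :
    ∃ (x₀ : Γ(N, ⊤)) (f : L ⟶ N),
      (∀ p, ∃ V : X.Opens, j p ∈ V ∧ IsGen N V (mres N le_top x₀)) ∧
      (∀ V : X.Opens, Disjoint (V : Set X) (Set.range j) → Function.Bijective (f.app V)) ∧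
      ∀ (σ : Γ(L, ⊤)) (V : X.Opens), IsGen N V (mres N le_top (f.app ⊤ σ)) → Disjoint (V : Set X) (Set.range j) := by
  obtain ⟨i, rfl⟩ : ∃ i, d = i + 1 := ⟨d - 1, by omega⟩
  have hI := IdealModSec.isInvertible_of_isEffCartier hj
  have hN' := Ample.isInvertible_tensorMod hN hI
  have hcl : clsMod hN' = clsMod hL * (clsMod hI)⁻¹ ^ i := by
    rw [Cube.clsMod_tensorMod hN hI, hNc, pow_succ]; simp [mul_assoc]
  haveI := subsingleton_H1_twists (A := A) j hj n ht L hL _ hd h1 i (by push_cast; nlinarith [hn]) _ hN' hcl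
  obtain ⟨g, θ, w, hS⟩ := Contract29.exists_seq_twist j hj hN hN' (Cube.clsMod_tensorMod hN hI)
  obtain ⟨e⟩ := (Cube.clsMod_eq_one_iff (Ample.isInvertible_pullback j hN)).1 (by
    rw [Cube.clsMod_pullback j hN, hNc, pull_mul_inv_pow j hj n ht _ hd, Nat.cast_mul, sub_self, zpow_zero])
  have hgen : IsGen ((Scheme.Modules.pullback j).obj N) (j ⁻¹ᵁ ⊤) (e.inv.app ⊤ (1 : Γ(CohB1.ProjSpace 1 k, ⊤))) :=
    (InvExt.isGen_one ⊤).map e.inv fun W _ =>
      ConcreteCategory.bijective_of_isIso ((Scheme.Modules.toPresheaf _).map e.inv |>.app (op W))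
  obtain ⟨x₀, hx₀⟩ := Contract29.surjective_of_subsingleton (A := A) hS (e.inv.app ⊤ (1 : Γ(CohB1.ProjSpace 1 k, ⊤)))
  have hx₀' : IsGen ((Scheme.Modules.pullback j).obj N) (j ⁻¹ᵁ ⊤) (down j (θ.app ⊤ x₀)) := by
    rw [show down j (θ.app ⊤ x₀) = e.inv.app ⊤ (1 : Γ(CohB1.ProjSpace 1 k, ⊤)) from hx₀]; exact hgen
  obtain ⟨f', hf'⟩ := Contract29.exists_map_twist j hj L hL i _ hN' hcl
  refine ⟨x₀, f' ≫ g, Contract29.exists_gen_nhd_of_image j hN θ x₀ hx₀',
    fun V hV => (Contract29.bijective_app_of_disjoint j hS rfl hV).comp (hf' V hV), fun σ V hV => ?_⟩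
  rw [Set.disjoint_left]
  rintro _ hz ⟨p, rfl⟩
  refine Contract29.not_gen_of_image_zero j hN θ x₀ hx₀' _ ?_ p hz hV
  show (g ≫ θ).app ⊤ (f'.app ⊤ σ) = 0
  rw [w]
  rfl

/-- A map to a projective space over the base collapsing exactly the line, with the bundles it pulls back. -/
theorem exists_collapse_map {L : X.Modules} (hA : CohB1.IsAmple L) (d : ℕ) (hd1 : 1 ≤ d)
    (hd : Cube.pull j (clsMod hA.1) = clsMod (CMReg.isInvertible_twist (n := 1) (k := k) 1) ^ ((n * d : ℕ) : ℤ)) :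
    ∃ (r : ℕ) (φ : X ⟶ CohB1.ProjSpace r A),
      φ ≫ CohB1.ProjSpace.toSpec r A = X ↘ Spec (CommRingCat.of A) ∧
      (∀ p q, φ (j p) = φ (j q)) ∧
      (∀ U : X.Opens, Disjoint (U : Set X) (Set.range j) → LocallyQuasiFinite (U.ι ≫ φ)) := by
  classical
  haveI := LocallyOfFiniteType.isLocallyNoetherian (X ↘ Spec (CommRingCat.of A))
  haveI := hA.2.1
  haveI : IsNoetherian X := ⟨⟩
  set I := clsMod (IdealModSec.isInvertible_of_isEffCartier hj) with hIdef
  set u := clsMod (CMReg.isInvertible_twist (n := 1) (k := k) 1) with hudef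
  obtain ⟨K, hK, hcover⟩ := Contract29.exists_ample_cover hA
  obtain ⟨n₀, hn₀⟩ := SerreVanish.exists_forall_subsingleton A hA
    (Euler.isCoh_of_isInvertible (Euler.isInvertible_structure (X := X)))
  have hvan : ∀ m, n₀ ≤ m → ∀ (M : X.Modules) (hM : PicF.IsInvertible M), clsMod hM = clsMod hA.1 ^ m →
      Subsingleton (Coh.HH X M 1) := fun m hm M hM h => by
    have hT := Euler.isInvertible_structure (X := X)
    have hP := Ample.isInvertible_tensorPow hA.1 m
    obtain ⟨e⟩ := (Cube.clsMod_eq_iff (Ample.isInvertible_tensorMod hT hP) hM).1 (by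
      rw [Cube.clsMod_tensorMod hT hP, Cube.clsMod_tensorPow hA.1, h,
        (Cube.clsMod_eq_one_iff hT).2 ⟨Iso.refl _⟩, one_mul])
    exact CMReg.subsingleton_of_iso e (hn₀ m hm 1 le_rfl)
  have htw : ∀ m, 1 ≤ m → n₀ ≤ m → ∀ (M : X.Modules) (hM : PicF.IsInvertible M) (N : X.Modules)
      (hN : PicF.IsInvertible N), clsMod hM = clsMod hA.1 ^ m → clsMod hN = (clsMod hA.1 * I⁻¹ ^ d) ^ m →
      ∃ (x₀ : Γ(N, ⊤)) (f : M ⟶ N),
        (∀ p, ∃ V : X.Opens, j p ∈ V ∧ IsGen N V (mres N le_top x₀)) ∧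
        (∀ V : X.Opens, Disjoint (V : Set X) (Set.range j) → Function.Bijective (f.app V)) ∧
        ∀ (σ : Γ(M, ⊤)) (V : X.Opens), IsGen N V (mres N le_top (f.app ⊤ σ)) →
          Disjoint (V : Set X) (Set.range j) := fun m h1 hm M hM N hN hMc hNc => by
    refine exists_twisted_sections (A := A) j hj n hn ht M hM (d * m) (Nat.mul_pos hd1 h1) ?_ (hvan m hm M hM hMc) N hN ?_
    · rw [hMc, map_pow, hd, ← zpow_natCast (u ^ ((n * d : ℕ) : ℤ)) m, ← zpow_mul]
      congr 1; push_cast; ring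
    · rw [hNc, mul_pow, ← pow_mul, hMc]
  let q := n₀ + 1
  let m := K * q
  have hm1 : 1 ≤ m := Nat.mul_pos hK (Nat.succ_pos _)
  have hm0 : n₀ ≤ m := (Nat.le_succ n₀).trans (Nat.le_mul_of_pos_left _ hK)
  obtain ⟨M, hM, hMc⟩ := Contract29.exists_mod (clsMod hA.1 ^ m)
  obtain ⟨N, hN, hNc⟩ := Contract29.exists_mod ((clsMod hA.1 * I⁻¹ ^ d) ^ m)
  obtain ⟨r, σ, W, hWaff, hWcov, hσ⟩ := hcover q (Nat.succ_pos _) M hM hMc
  obtain ⟨x₀, f, hx₀, hf, hfd⟩ := htw m hm1 hm0 M hM N hN hMc hNc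
  obtain ⟨c, ⟨e⟩⟩ := Ample.exists_cocycle hN
  let s : Fin (r + 1) → Γ(N, ⊤) := Fin.cons x₀ fun t => f.app ⊤ (σ t)
  have hoff : ∀ (x : X), x ∉ Set.range j → ∃ t, x ∈ c.locus (Ample.ProjMap.sec c e s (Fin.succ t)) := fun x hx => by
    obtain ⟨t, ht'⟩ := Opens.mem_iSup.1 (hWcov.ge (Opens.mem_top x))
    let V : X.Opens := W t ⊓ ⟨(Set.range j)ᶜ, j.isClosedEmbedding.isClosed_range.isOpen_compl⟩
    have hV : Disjoint (V : Set X) (Set.range j) := Set.disjoint_left.2 fun z hz => hz.2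
    have hg := ((hσ t V).2 inf_le_left).map f fun O hO => hf O (hV.mono_left hO)
    rw [← InvExt.mres_app] at hg
    refine ⟨t, (Contract29.gen_iff_le_locus c e (s t.succ) V).1 ?_ ⟨ht', hx⟩⟩
    exact hg
  have hcov : ⨆ i, c.locus (Ample.ProjMap.sec c e s i) = ⊤ := by
    refine eq_top_iff.2 fun x _ => ?_
    by_cases hx : x ∈ Set.range j
    · obtain ⟨p, rfl⟩ := hx
      obtain ⟨V, hpV, hV⟩ := hx₀ p
      exact Opens.mem_iSup.2 ⟨0, (Contract29.gen_iff_le_locus c e x₀ V).1 hV hpV⟩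
    · obtain ⟨t, ht'⟩ := hoff x hx
      exact Opens.mem_iSup.2 ⟨t.succ, ht'⟩
  let D := Ample.ProjMap.dataOfSections c e s hcov (X ↘ Spec (CommRingCat.of A))
  let φ := D.map
  have hpre : ∀ i, φ ⁻¹ᵁ Proj.basicOpen (CohB1.polyGrading r A) (MvPolynomial.X i) =
      c.locus (Ample.ProjMap.sec c e s i) := fun i => D.map_preimage i
  have hDaff : ∀ i, IsAffineOpen (Proj.basicOpen (CohB1.polyGrading r A) (MvPolynomial.X i)) := fun i =>
    Proj.isAffineOpen_basicOpen _ _ (Ample.ProjMap.X_mem i) one_pos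
  haveI := Chow.isProper_toSpec r A
  haveI : IsProper (φ ≫ CohB1.ProjSpace.toSpec r A) := by rw [D.map_toSpec]; infer_instance
  haveI : IsProper φ := IsProper.of_comp φ (CohB1.ProjSpace.toSpec r A)
  have hin : ∀ t, φ ⁻¹ᵁ Proj.basicOpen (CohB1.polyGrading r A) (MvPolynomial.X (Fin.succ t)) ≤ W t := fun t => by
    rw [hpre]
    intro x hx
    let V := c.locus (Ample.ProjMap.sec c e s (Fin.succ t))
    have hg : IsGen N V (mres N le_top (f.app ⊤ (σ t))) := (Contract29.gen_iff_le_locus c e (f.app ⊤ (σ t)) V).2 le_rfl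
    have hV := hfd (σ t) V hg
    have hbij : ∀ O, O ≤ V → Function.Bijective (f.app O) := fun O hO => hf O (hV.mono_left hO)
    refine (hσ t V).1 (fun O hO => ⟨fun a a' h => ?_, fun z => ?_⟩) hx
    · refine (hg O hO).1 ?_
      have := congrArg (f.app O) h
      rw [Scheme.Modules.Hom.app_smul, Scheme.Modules.Hom.app_smul, InvExt.mres_mres, ← InvExt.mres_app] at this
      show a • mres N hO (mres N le_top _) = a' • mres N hO (mres N le_top _)
      rw [InvExt.mres_mres]
      exact this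
    · obtain ⟨a, ha⟩ := (hg O hO).2 (f.app O z)
      refine ⟨a, (hbij O hO).1 ?_⟩
      rw [Scheme.Modules.Hom.app_smul, InvExt.mres_mres, ← InvExt.mres_app, ← ha]
      show _ = a • mres N hO (mres N le_top _)
      rw [InvExt.mres_mres]
  refine ⟨r, φ, D.map_toSpec, ?_, fun U hU => ?_⟩
  · have h0 : ∀ p, φ (j p) ∈ Proj.basicOpen (CohB1.polyGrading r A) (MvPolynomial.X 0) := fun p => by
      show j p ∈ φ ⁻¹ᵁ Proj.basicOpen (CohB1.polyGrading r A) (MvPolynomial.X 0)
      rw [hpre]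
      obtain ⟨V, hpV, hV⟩ := hx₀ p
      exact (Contract29.gen_iff_le_locus c e x₀ V).1 hV hpV
    intro p q
    exact Contract29.subsingleton_range_of_subset_affine (j ≫ φ) _ (hDaff 0) h0 p q
  · haveI : CompactSpace U.toScheme := isCompact_iff_compactSpace.1 (NoetherianSpace.isCompact (U : Set X))
    refine LocallyQuasiFinite.of_finite_preimage_singleton _ fun z => ?_
    by_cases hz : ∃ t, z ∈ Proj.basicOpen (CohB1.polyGrading r A) (MvPolynomial.X (Fin.succ t))
    · obtain ⟨t, ht'⟩ := hz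
      let D' := Proj.basicOpen (CohB1.polyGrading r A) (MvPolynomial.X (Fin.succ t))
      haveI := Contract29.isFinite_of_le_affine (X ↘ Spec (CommRingCat.of A)) (CohB1.ProjSpace.toSpec r A) φ D.map_toSpec D'
        (hDaff _) (W t) (hWaff t) (hin t)
      refine (((φ ∣_ D').finite_preimage_singleton ⟨z, ht'⟩).image Subtype.val |>.preimage
        U.ι.isOpenEmbedding.injective.injOn).subset fun x hx => ?_
      have hxD : φ (U.ι x) ∈ D' := by rw [show φ (U.ι x) = z from hx]; exact ht'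
      refine ⟨⟨U.ι x, hxD⟩, Subtype.ext ?_, rfl⟩
      rw [morphismRestrict_base_coe]
      exact hx
    · refine Set.Finite.subset Set.finite_empty fun x hx => hz ?_
      obtain ⟨t, ht'⟩ := hoff (U.ι x) (Set.disjoint_left.1 hU x.2)
      rw [← hpre] at ht'
      exact ⟨t, (show φ (U.ι x) = z from hx) ▸ ht'⟩
end GrothLib.NegLine28
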